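import Groth.Agent.InfLift.Scheme
import Groth.Agent.UnramPoint.Basic

/-!
Unramifiedness at a point through uniqueness of lifts from square-zero extensions of local rings.
-/

universe u

open CategoryTheory CategoryTheory.Limits AlgebraicGeometry IsLocalRing TrivSqZeroExt

set_option linter.style.haveILetI false

namespace Groth.Agent.UnramLift

variable {R S : Type u} [CommRing R] [CommRing S] [Algebra R S]

local notation "E" => TrivSqZeroExt S Ω[S⁄R]

theorem isLocalRing_tsze [IsLocalRing S] [Module Sᵐᵒᵖ Ω[S⁄R]] [IsCentralScalar S Ω[S⁄R]] : IsLocalRing E :=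
  .of_isUnit_or_isUnit_one_sub_self fun a => by
    rw [isUnit_iff_isUnit_fst, isUnit_iff_isUnit_fst, fst_sub, fst_one]
    exact IsLocalRing.isUnit_or_isUnit_one_sub_self _

/-- If the two tautological square-zero lifts agree, the algebra is formally unramified. -/
theorem formallyUnramified_of_unique [IsLocalRing S]
    (h : ∀ (B' : Type u) [CommRing B'] [IsLocalRing B'] (φ : B' →+* S), Function.Surjective φ →
      RingHom.ker φ ^ 2 = ⊥ → ∀ ψ₁ ψ₂ : S →+* B', φ.comp ψ₁ = RingHom.id S → φ.comp ψ₂ = RingHom.id S →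
        ψ₁.comp (algebraMap R S) = ψ₂.comp (algebraMap R S) → ψ₁ = ψ₂) :
    Algebra.FormallyUnramified R S := by
  letI : Module Sᵐᵒᵖ Ω[S⁄R] := Module.compHom _ ((RingHom.id S).fromOpposite mul_comm)
  haveI : IsCentralScalar S Ω[S⁄R] := ⟨fun _ _ => rfl⟩
  haveI := isLocalRing_tsze (R := R) (S := S)
  let φ : E →+* S := (fstHom S S Ω[S⁄R]).toRingHom
  let ψ₂ : S →+* E :=
    { toFun := fun a => inl a + inr (KaehlerDifferential.D R S a)
      map_one' := by rw [Derivation.map_one_eq_zero, inr_zero, add_zero, inl_one]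
      map_zero' := by rw [map_zero, inr_zero, add_zero, inl_zero]
      map_mul' := fun a b => by
        ext
        · simp
        · simp [Derivation.leibniz]
      map_add' := fun a b => by
        ext
        · simp
        · simp }
  have hker : RingHom.ker φ ^ 2 = ⊥ := by
    rw [pow_two, eq_bot_iff, Ideal.mul_le]
    intro x hx y hy
    rw [Ideal.mem_bot]
    have hx' : x.fst = 0 := hx
    have hy' : y.fst = 0 := hy
    ext <;> simp [hx', hy']
  have he := h E φ (fun s => ⟨inl s, rfl⟩) hker (inlHom S Ω[S⁄R]) ψ₂ (RingHom.ext fun _ => rfl)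
    (RingHom.ext fun a => show (inl a + inr (KaehlerDifferential.D R S a)).fst = a by simp)
    (RingHom.ext fun r => by
      show inl (algebraMap R S r) = inl (algebraMap R S r) + inr (KaehlerDifferential.D R S (algebraMap R S r))
      rw [Derivation.map_algebraMap, inr_zero, add_zero])
  rw [Algebra.formallyUnramified_iff]
  refine (subsingleton_iff_forall_eq 0).2 fun m => ?_
  have hD : ∀ a, KaehlerDifferential.D R S a = 0 := fun a => by
    have := congrArg TrivSqZeroExt.snd (RingHom.congr_fun he a)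
    simpa [ψ₂] using this.symm
  have hm : m ∈ (⊤ : Submodule S Ω[S⁄R]) := trivial
  rw [← KaehlerDifferential.span_range_derivation] at hm
  have hbot : Submodule.span S (Set.range (KaehlerDifferential.D R S)) = ⊥ := by
    rw [Submodule.span_eq_bot]
    rintro _ ⟨a, rfl⟩
    exact hD a
  rwa [hbot, Submodule.mem_bot] at hm

theorem eq_of_lifts {X Y : Scheme.{u}} (f : X ⟶ Y) (U : X.Opens) [FormallyUnramified (U.ι ≫ f)]
    {B B' : Type u} [CommRing B] [CommRing B'] [IsLocalRing B] [IsLocalRing B'] (φ : B' →+* B)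
    (hφ : Function.Surjective φ) (hker : RingHom.ker φ ^ 2 = ⊥) (α : Spec (CommRingCat.of B) ⟶ X)
    (hα : α (closedPoint B) ∈ U) (γ₁ γ₂ : Spec (CommRingCat.of B') ⟶ X)
    (h₁ : Spec.map (CommRingCat.ofHom φ) ≫ γ₁ = α) (h₂ : Spec.map (CommRingCat.ofHom φ) ≫ γ₂ = α)
    (h : γ₁ ≫ f = γ₂ ≫ f) : γ₁ = γ₂ := by
  haveI hl : IsLocalHom φ := IsLocalHom.of_surjective φ hφ
  have hc : Spec.map (CommRingCat.ofHom φ) (closedPoint B) = closedPoint B' :=
    IsLocalRing.comap_closedPoint φ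
  have hU : ∀ γ : Spec (CommRingCat.of B') ⟶ X, Spec.map (CommRingCat.ofHom φ) ≫ γ = α →
      Set.range γ ⊆ Set.range U.ι := by
    rintro γ hγ _ ⟨p, rfl⟩
    rw [Scheme.Opens.range_ι]
    have h1 : γ p ⤳ γ (closedPoint B') := (specializes_closedPoint p).map γ.continuous
    refine h1.mem_open U.2 ?_
    rw [← hc, ← Scheme.Hom.comp_apply, hγ]
    exact hα
  let l₁ := IsOpenImmersion.lift U.ι γ₁ (hU γ₁ h₁)
  let l₂ := IsOpenImmersion.lift U.ι γ₂ (hU γ₂ h₂)
  have e₁ : l₁ ≫ U.ι = γ₁ := IsOpenImmersion.lift_fac _ _ _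
  have e₂ : l₂ ≫ U.ι = γ₂ := IsOpenImmersion.lift_fac _ _ _
  let e : (B' ⧸ RingHom.ker φ) ≃+* B := RingHom.quotientKerEquivOfSurjective hφ
  have hfac : Spec.map (CommRingCat.ofHom φ) =
      Spec.map (e.toCommRingCatIso.hom) ≫ InfLift.specQuot (RingHom.ker φ) := by
    rw [← Spec.map_comp]
    exact congrArg Spec.map (CommRingCat.hom_ext (RingHom.ext fun a => rfl))
  have : l₁ = l₂ := by
    refine InfLift.lift_unique (RingHom.ker φ) (U.ι ≫ f) hker ?_
      (by rw [← Category.assoc, e₁, ← Category.assoc, e₂, h])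
    rw [← cancel_epi (Spec.map (e.toCommRingCatIso.hom)), ← Category.assoc, ← Category.assoc, ← hfac,
      ← cancel_mono U.ι, Category.assoc, Category.assoc, e₁, e₂, h₁, h₂]
  rw [← e₁, this, e₂]

theorem stalkMap_formallyUnramified_of_unique {X Y : Scheme.{u}} (f : X ⟶ Y) (x : X)
    (h : ∀ (B B' : Type u) [CommRing B] [CommRing B'] [IsLocalRing B] [IsLocalRing B'] (φ : B' →+* B),
      Function.Surjective φ → RingHom.ker φ ^ 2 = ⊥ →
      ∀ (α : Spec (CommRingCat.of B) ⟶ X) (β : Spec (CommRingCat.of B') ⟶ Y),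
        α.base (IsLocalRing.closedPoint B) = x → Spec.map (CommRingCat.ofHom φ) ≫ β = α ≫ f →
        ∀ γ₁ γ₂ : Spec (CommRingCat.of B') ⟶ X,
          Spec.map (CommRingCat.ofHom φ) ≫ γ₁ = α → γ₁ ≫ f = β →
          Spec.map (CommRingCat.ofHom φ) ≫ γ₂ = α → γ₂ ≫ f = β → γ₁ = γ₂) :
    (f.stalkMap x).hom.FormallyUnramified := by
  algebraize [(f.stalkMap x).hom]
  show Algebra.FormallyUnramified (Y.presheaf.stalk (f x)) (X.presheaf.stalk x)
  refine formallyUnramified_of_unique fun B' _ _ φ hφ hker ψ₁ ψ₂ h1 h2 h12 => ?_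
  let α : Spec (CommRingCat.of (X.presheaf.stalk x)) ⟶ X := X.fromSpecStalk x
  let γ₁ : Spec (CommRingCat.of B') ⟶ X := Spec.map (CommRingCat.ofHom ψ₁) ≫ X.fromSpecStalk x
  let γ₂ : Spec (CommRingCat.of B') ⟶ X := Spec.map (CommRingCat.ofHom ψ₂) ≫ X.fromSpecStalk x
  have hid : ∀ ψ : X.presheaf.stalk x →+* B', φ.comp ψ = RingHom.id _ →
      Spec.map (CommRingCat.ofHom φ) ≫ Spec.map (CommRingCat.ofHom ψ) ≫ X.fromSpecStalk x = α := by
    intro ψ hψ
    rw [← Spec.map_comp_assoc, ← CommRingCat.ofHom_comp, hψ]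
    simp [α]
  have hf : γ₂ ≫ f = γ₁ ≫ f := by
    simp only [γ₁, γ₂, Category.assoc, ← Scheme.SpecMap_stalkMap_fromSpecStalk]
    rw [← Spec.map_comp_assoc, ← Spec.map_comp_assoc]
    exact congrArg (fun k => Spec.map k ≫ Y.fromSpecStalk (f x)) (CommRingCat.hom_ext h12.symm)
  have := h (X.presheaf.stalk x) B' φ hφ hker α (γ₁ ≫ f) Scheme.fromSpecStalk_closedPoint
    (by rw [← Category.assoc, hid ψ₁ h1]) γ₁ γ₂ (hid ψ₁ h1) rfl (hid ψ₂ h2) hf
  exact congrArg CommRingCat.Hom.hom (Spec.map_injective ((cancel_mono (X.fromSpecStalk x)).1 this))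

end Groth.Agent.UnramLift
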